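import Groth.Prelude.Def_W4c1extbt610Disp
import Mathlib

/-!
Exterior powers of a 3n-display with tangent module of rank one.
-/

set_option autoImplicit false
set_option maxHeartbeats 800000

universe u v w

namespace Groth.Agent.DispExt

section alt
variable {R : Type u} [CommRing R] {M : Type v} [AddCommGroup M] [Module R M] {N : Type w} [AddCommGroup N]
  [Module R N] {ι : Type*} [Fintype ι] [DecidableEq ι]

theorem map_add_smul_const_of_mem (f : M [⋀^ι]→ₗ[R] N) (l : ι → M) (c : ι → R) (t : M) (j : ι) (s : Finset ι) (hj : j ∉ s) :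
    f (Function.update (fun i => if i ∈ s then l i + c i • t else l i) j t) = f (Function.update l j t) := by
  induction s using Finset.induction_on with
  | empty => simp
  | @insert a s ha ih =>
    have haj : j ≠ a := fun h => hj (h ▸ Finset.mem_insert_self a s)
    have h1 : (fun i => if i ∈ insert a s then l i + c i • t else l i) =
        Function.update (fun i => if i ∈ s then l i + c i • t else l i) a (l a + c a • t) := by
      funext i
      rcases eq_or_ne i a with rfl | hi
      · simp
      · simp [hi]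
    rw [h1, Function.update_comm haj.symm, f.map_update_add, f.map_update_smul]
    rw [f.map_eq_zero_of_eq (Function.update (Function.update
      (fun i => if i ∈ s then l i + c i • t else l i) j t) a t) (i := a) (j := j) (by simp [haj]) haj.symm,
      smul_zero, add_zero]
    rw [Function.update_comm haj, ← ih (fun h => hj (Finset.mem_insert_of_mem h))]
    congr 2
    funext i
    rcases eq_or_ne i a with rfl | hi
    · simp [ha]
    · simp [hi]

theorem map_add_smul_const (f : M [⋀^ι]→ₗ[R] N) (l : ι → M) (c : ι → R) (t : M) :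
    f (fun i => l i + c i • t) = f l + ∑ i, c i • f (Function.update l i t) := by
  have key : ∀ s : Finset ι, f (fun i => if i ∈ s then l i + c i • t else l i) =
      f l + ∑ i ∈ s, c i • f (Function.update l i t) := by
    intro s
    induction s using Finset.induction_on with
    | empty => simp
    | @insert a s ha ih =>
      have h1 : (fun i => if i ∈ insert a s then l i + c i • t else l i) =
          Function.update (fun i => if i ∈ s then l i + c i • t else l i) a (l a + c a • t) := by
        funext i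
        rcases eq_or_ne i a with rfl | hi
        · simp
        · simp [hi]
      rw [h1, f.map_update_add, f.map_update_smul, map_add_smul_const_of_mem f l c t a s ha,
        Finset.sum_insert ha]
      have h2 : Function.update (fun i => if i ∈ s then l i + c i • t else l i) a (l a) =
          fun i => if i ∈ s then l i + c i • t else l i := by
        funext i
        rcases eq_or_ne i a with rfl | hi
        · simp [ha]
        · simp [hi]
      rw [h2, ih]
      abel
  simpa using key Finset.univ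

end alt

variable {p : ℕ} [Fact p.Prime] {R : Type u} [CommRing R] {P : Type v} [AddCommGroup P]
  [Module (WittVector p R) P]

local notation "W" => WittVector p R
local notation "σ" => (WittVector.frobenius : WittVector p R →+* WittVector p R)

open W4c1extbt610

theorem mem_IV_iff {x : W} : x ∈ IV p R ↔ ∃ a, WittVector.verschiebung a = x := by
  refine ⟨fun hx => ?_, fun ⟨a, ha⟩ => ha ▸ verschiebung_mem_IV p R a⟩
  refine Submodule.span_induction (fun y hy => hy) ⟨0, map_zero _⟩
    (fun a b _ _ ⟨a', ha⟩ ⟨b', hb⟩ => ⟨a' + b', by rw [map_add, ha, hb]⟩) ?_ hx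
  rintro c y - ⟨a, rfl⟩
  exact ⟨a * σ c, by rw [WittVector.verschiebung_mul_frobenius, smul_eq_mul, mul_comm]⟩

/-- The inverse of the Verschiebung on its image. -/
noncomputable def Vd : IV p R →ₛₗ[σ] W where
  toFun x := (mem_IV_iff.1 x.2).choose
  map_add' x y := WittVector.verschiebung_injective _ _ (by
    rw [map_add, (mem_IV_iff.1 x.2).choose_spec, (mem_IV_iff.1 y.2).choose_spec,
      (mem_IV_iff.1 (x + y).2).choose_spec, Submodule.coe_add])
  map_smul' c x := WittVector.verschiebung_injective _ _ (by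
    rw [(mem_IV_iff.1 (c • x).2).choose_spec, smul_eq_mul, mul_comm,
      WittVector.verschiebung_mul_frobenius, (mem_IV_iff.1 x.2).choose_spec, Submodule.coe_smul,
      smul_eq_mul, mul_comm])

@[simp] theorem Vd_verschiebung (a : W) (h : WittVector.verschiebung a ∈ IV p R) :
    Vd (⟨WittVector.verschiebung a, h⟩ : IV p R) = a :=
  WittVector.verschiebung_injective _ _ (mem_IV_iff.1 h).choose_spec

theorem σ_verschiebung (w : W) : σ (WittVector.verschiebung w) = w * (p : W) :=
  WittVector.frobenius_verschiebung w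

theorem eq_V_smul {x : P} (t : P) (hx : x ∈ IV p R • Submodule.span W {t}) :
    ∃ a : W, x = WittVector.verschiebung a • t := by
  refine Submodule.smul_induction_on hx (fun r hr n hn => ?_) fun a b ⟨a', ha⟩ ⟨b', hb⟩ => ?_
  · obtain ⟨c, rfl⟩ := Submodule.mem_span_singleton.1 hn
    obtain ⟨a, ha⟩ := mem_IV_iff.1 ((IV p R).mul_mem_right c hr)
    exact ⟨a, by rw [ha, smul_smul]⟩
  · exact ⟨a' + b', by rw [ha, hb, map_add, add_smul]⟩

variable (D : Display3n p R P) {L T : Submodule (WittVector p R) P} (hLT : IsCompl L T) (hQ : D.Q = L ⊔ IV p R • T)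

noncomputable def projL : P →ₗ[W] P := LinearMap.id - (LinearMap.id - (L.subtype.comp (L.projectionOnto T hLT)))

theorem projL_apply (x : P) : projL hLT x = (L.projectionOnto T hLT x : P) := by
  simp [projL]

theorem projL_of_mem {x : P} (hx : x ∈ L) : projL hLT x = x := by
  rw [projL_apply]
  exact congrArg Subtype.val (Submodule.projectionOnto_apply_left hLT ⟨x, hx⟩)

theorem projL_of_mem_T {x : P} (hx : x ∈ T) : projL hLT x = 0 := by
  rw [projL_apply, (Submodule.projectionOnto_apply_eq_zero_iff hLT).2 hx, ZeroMemClass.coe_zero]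

theorem projL_mem (x : P) : projL hLT x ∈ L := by
  rw [projL_apply]
  exact Subtype.coe_prop _

include hLT in
theorem exists_decomp (x : P) : ∃ l ∈ L, ∃ s ∈ T, l + s = x :=
  Submodule.mem_sup.1 (hLT.sup_eq_top ▸ Submodule.mem_top)

theorem sub_projL_mem (x : P) : x - projL hLT x ∈ T := by
  obtain ⟨l, hl, s, hs, rfl⟩ := exists_decomp hLT x
  rw [map_add, projL_of_mem hLT hl, projL_of_mem_T hLT hs, add_zero, add_sub_cancel_left]
  exact hs

include hQ in
theorem L_le : L ≤ D.Q := hQ ▸ le_sup_left

noncomputable def g : P →ₛₗ[σ] P where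
  toFun x := D.Vinv ⟨projL hLT x, L_le D hQ (projL_mem hLT x)⟩ + D.F (x - projL hLT x)
  map_add' x y := by
    have h : (⟨projL hLT (x + y), L_le D hQ (projL_mem hLT _)⟩ : D.Q) =
        ⟨projL hLT x, L_le D hQ (projL_mem hLT x)⟩ + ⟨projL hLT y, L_le D hQ (projL_mem hLT y)⟩ :=
      Subtype.ext (map_add _ x y)
    rw [h, map_add, map_add (projL hLT),
      show x + y - (projL hLT x + projL hLT y) = (x - projL hLT x) + (y - projL hLT y) by abel, map_add]
    abel
  map_smul' c x := by
    have h : (⟨projL hLT (c • x), L_le D hQ (projL_mem hLT _)⟩ : D.Q) =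
        c • ⟨projL hLT x, L_le D hQ (projL_mem hLT x)⟩ :=
      Subtype.ext (map_smul _ c x)
    rw [h, map_smulₛₗ, map_smul (projL hLT), ← smul_sub, map_smulₛₗ, smul_add]

theorem g_of_mem {x : P} (hx : x ∈ L) : g D hLT hQ x = D.Vinv ⟨x, L_le D hQ hx⟩ := by
  show D.Vinv _ + D.F _ = _
  have h : (⟨projL hLT x, L_le D hQ (projL_mem hLT x)⟩ : D.Q) = ⟨x, L_le D hQ hx⟩ :=
    Subtype.ext (projL_of_mem hLT hx)
  rw [h, projL_of_mem hLT hx, sub_self, map_zero, add_zero]

theorem g_of_mem_T {x : P} (hx : x ∈ T) : g D hLT hQ x = D.F x := by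
  show D.Vinv _ + D.F _ = _
  have h : (⟨projL hLT x, L_le D hQ (projL_mem hLT x)⟩ : D.Q) = 0 := Subtype.ext (projL_of_mem_T hLT hx)
  rw [h, map_zero, projL_of_mem_T hLT hx, sub_zero, zero_add]

/-- `M` with scalars acting through Frobenius. -/
def Tw (p : ℕ) [Fact p.Prime] (R : Type u) [CommRing R] (M : Type w) : Type w := M

noncomputable instance (M : Type w) [AddCommGroup M] : AddCommGroup (Tw p R M) := inferInstanceAs (AddCommGroup M)
noncomputable instance (M : Type w) [AddCommGroup M] [Module W M] : Module W (Tw p R M) :=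
  Module.compHom M σ

variable (r : ℕ)

local notation "Λ" => ⋀[WittVector p R]^r P

noncomputable def Galt : P [⋀^Fin r]→ₗ[W] Tw p R Λ where
  toFun x := (exteriorPower.ιMulti W r (fun i => g D hLT hQ (x i)) : Λ)
  map_update_add' x i a b := by
    change (exteriorPower.ιMulti W r (fun j => g D hLT hQ (Function.update x i (a + b) j)) : Λ) =
      exteriorPower.ιMulti W r (fun j => g D hLT hQ (Function.update x i a j)) +
      exteriorPower.ιMulti W r (fun j => g D hLT hQ (Function.update x i b j))
    simp only [Function.apply_update (fun _ => g D hLT hQ), map_add, AlternatingMap.map_update_add]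
  map_update_smul' x i c a := by
    change (exteriorPower.ιMulti W r (fun j => g D hLT hQ (Function.update x i (c • a) j)) : Λ) =
      σ c • exteriorPower.ιMulti W r (fun j => g D hLT hQ (Function.update x i a j))
    simp only [Function.apply_update (fun _ => g D hLT hQ), map_smulₛₗ, AlternatingMap.map_update_smul]
  map_eq_zero_of_eq' x i j h hij :=
    AlternatingMap.map_eq_zero_of_eq (exteriorPower.ιMulti W r) (fun k => g D hLT hQ (x k)) (congrArg (g D hLT hQ) h) hij

noncomputable def Gl : Λ →ₗ[W] Tw p R Λ := exteriorPower.alternatingMapLinearEquiv (Galt D hLT hQ r)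

noncomputable def G : Λ →ₛₗ[σ] Λ where
  toFun z := Gl D hLT hQ r z
  map_add' x y := (Gl D hLT hQ r).map_add x y
  map_smul' c x := (Gl D hLT hQ r).map_smul c x

theorem G_ιMulti (x : Fin r → P) :
    G D hLT hQ r (exteriorPower.ιMulti W r x) = exteriorPower.ιMulti W r (fun i => g D hLT hQ (x i)) :=
  exteriorPower.alternatingMapLinearEquiv_apply_ιMulti (Galt D hLT hQ r) x

noncomputable def π₀ : Λ →ₗ[W] Λ := exteriorPower.map r (projL hLT)

noncomputable def π₁ : Λ →ₗ[W] Λ := LinearMap.id - π₀ hLT r

theorem π₀_ιMulti (x : Fin r → P) :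
    π₀ hLT r (exteriorPower.ιMulti W r x) = exteriorPower.ιMulti W r (fun i => projL hLT (x i)) :=
  exteriorPower.map_apply_ιMulti _ _

theorem π₀_idem (z : Λ) : π₀ hLT r (π₀ hLT r z) = π₀ hLT r z := by
  show (π₀ hLT r ∘ₗ π₀ hLT r) z = _
  congr 1
  rw [π₀, ← exteriorPower.map_comp]
  congr 1
  exact LinearMap.ext fun x => projL_of_mem hLT (projL_mem hLT x)

theorem π₀_π₁ (z : Λ) : π₀ hLT r (π₁ hLT r z) = 0 := by
  simp [π₁, π₀_idem]

theorem π₁_π₁ (z : Λ) : π₁ hLT r (π₁ hLT r z) = π₁ hLT r z := by
  simp [π₁, π₀_idem]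

theorem π₀_add_π₁ (z : Λ) : π₀ hLT r z + π₁ hLT r z = z := by simp [π₁]

noncomputable def Q' : Submodule W Λ :=
  Submodule.span W (Set.range fun q : Fin r → D.Q => exteriorPower.ιMulti W r (fun i => (q i : P)))

variable (t : P) (ht : T = Submodule.span (WittVector p R) {t})

include hQ ht in
theorem exists_q (q : D.Q) : ∃ (l : P) (a : W), l ∈ L ∧ (q : P) = l + WittVector.verschiebung a • t := by
  obtain ⟨l, hl, s, hs, e⟩ := Submodule.mem_sup.1 (hQ ▸ q.2 : (q : P) ∈ L ⊔ IV p R • T)
  obtain ⟨a, rfl⟩ := eq_V_smul t (ht ▸ hs)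
  exact ⟨l, a, hl, e.symm⟩

include ht in
theorem t_mem : t ∈ T := ht ▸ Submodule.mem_span_singleton_self t

include hLT ht in
theorem exists_x (x : P) : ∃ (l : P) (c : W), l ∈ L ∧ x = l + c • t := by
  obtain ⟨l, hl, s, hs, rfl⟩ := exists_decomp hLT x
  obtain ⟨c, rfl⟩ := Submodule.mem_span_singleton.1 (ht ▸ hs)
  exact ⟨l, c, hl, rfl⟩

theorem π₀_of_L {l : Fin r → P} (hl : ∀ i, l i ∈ L) :
    π₀ hLT r (exteriorPower.ιMulti W r l) = exteriorPower.ιMulti W r l := by
  rw [π₀_ιMulti]
  exact congrArg _ (funext fun i => projL_of_mem hLT (hl i))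

include ht in
theorem π₀_update {l : Fin r → P} (hl : ∀ i, l i ∈ L) (i : Fin r) :
    π₀ hLT r (exteriorPower.ιMulti W r (Function.update l i t)) = 0 := by
  rw [π₀_ιMulti]
  exact AlternatingMap.map_coord_zero _ i (by simp [projL_of_mem_T hLT (t_mem t ht)])

include hLT hQ ht in
theorem IV_smul_le_Q' : IV p R • (⊤ : Submodule W Λ) ≤ Q' D r := by
  rw [← exteriorPower.ιMulti_span, Submodule.smul_le]
  intro c hc z hz
  induction hz using Submodule.span_induction with
  | zero => simp
  | add a b _ _ ha hb => rw [smul_add]; exact add_mem ha hb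
  | smul d a _ ha => rw [smul_comm]; exact Submodule.smul_mem _ _ ha
  | mem z hz =>
    obtain ⟨x, rfl⟩ := hz
    choose l b hl hx using fun i => exists_x hLT t ht (x i)
    rw [show x = fun i => l i + b i • t from funext hx, map_add_smul_const, smul_add, Finset.smul_sum]
    refine add_mem (Submodule.smul_mem _ _ (Submodule.subset_span
      ⟨fun i => ⟨l i, L_le D hQ (hl i)⟩, rfl⟩)) (Submodule.sum_mem _ fun i _ => ?_)
    rw [smul_comm, ← AlternatingMap.map_update_smul]
    refine Submodule.smul_mem _ _ (Submodule.subset_span ⟨fun j => ⟨Function.update l i (c • t) j, ?_⟩, rfl⟩)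
    rcases eq_or_ne j i with rfl | hj
    · rw [Function.update_self]
      exact D.IV_smul_le (Submodule.smul_mem_smul hc Submodule.mem_top)
    · rw [Function.update_of_ne hj]
      exact L_le D hQ (hl j)

include hQ ht in
theorem π₁_mem {z : Λ} (hz : z ∈ Q' D r) : π₁ hLT r z ∈ IV p R • (⊤ : Submodule W Λ) := by
  induction hz using Submodule.span_induction with
  | zero => simp
  | add a b _ _ ha hb => rw [map_add]; exact add_mem ha hb
  | smul d a _ ha => rw [map_smul]; exact Submodule.smul_mem _ _ ha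
  | mem z hz =>
    obtain ⟨q, rfl⟩ := hz
    choose l b hl hx using fun i => exists_q D hQ t ht (q i)
    show π₁ hLT r (exteriorPower.ιMulti W r fun i => (q i : P)) ∈ _
    rw [show (fun i => (q i : P)) = fun i => l i + WittVector.verschiebung (b i) • t from funext hx,
      map_add_smul_const, map_add, map_sum]
    refine add_mem ?_ (Submodule.sum_mem _ fun i _ => ?_)
    · simp [π₁, π₀_of_L hLT r hl]
    · rw [map_smul]
      exact Submodule.smul_mem_smul (verschiebung_mem_IV p R _) Submodule.mem_top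

include D in
theorem exists_split : ∃ n, ∃ (π : (Fin n → W) →ₗ[W] Λ) (s : Λ →ₗ[W] (Fin n → W)), π ∘ₗ s = LinearMap.id := by
  haveI := D.finite
  haveI := D.projective
  obtain ⟨n, f, g, -, -, h⟩ := Module.Finite.exists_comp_eq_id_of_projective W P
  haveI : Module.Projective W Λ := Module.Projective.of_split (exteriorPower.map r g) (exteriorPower.map r f)
    (by rw [← exteriorPower.map_comp, h, exteriorPower.map_id])
  obtain ⟨n', f', g', -, -, h'⟩ := Module.Finite.exists_comp_eq_id_of_projective W Λ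
  exact ⟨n', f', g', h'⟩

theorem coord_mem {n : ℕ} (s : Λ →ₗ[W] (Fin n → W)) {x : Λ} (hx : x ∈ IV p R • (⊤ : Submodule W Λ)) (i : Fin n) :
    s x i ∈ IV p R :=
  Submodule.smul_induction_on hx
    (fun c hc m _ => by rw [map_smul, Pi.smul_apply, smul_eq_mul]; exact (IV p R).mul_mem_right _ hc)
    (fun a b ha hb => by rw [map_add, Pi.add_apply]; exact add_mem ha hb)

noncomputable def θ : ↥(IV p R • (⊤ : Submodule W Λ)) →ₛₗ[σ] Λ where
  toFun x := ∑ i, Vd ⟨(exists_split D r).choose_spec.choose_spec.choose x.1 i, coord_mem r _ x.2 i⟩ •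
      G D hLT hQ r ((exists_split D r).choose_spec.choose (Pi.single i 1))
  map_add' x y := by
    rw [← Finset.sum_add_distrib]
    refine Finset.sum_congr rfl fun i _ => ?_
    rw [← add_smul, ← map_add]
    congr 2
    exact Subtype.ext (congrFun (map_add (exists_split D r).choose_spec.choose_spec.choose x.1 y.1) i)
  map_smul' c x := by
    rw [Finset.smul_sum]
    refine Finset.sum_congr rfl fun i _ => ?_
    rw [smul_smul, ← smul_eq_mul, ← LinearMap.map_smulₛₗ]
    congr 2
    exact Subtype.ext (congrFun (map_smul (exists_split D r).choose_spec.choose_spec.choose c x.1) i)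

theorem θ_smul (a : W) (m : Λ) (h : WittVector.verschiebung a • m ∈ IV p R • (⊤ : Submodule W Λ)) :
    θ D hLT hQ r ⟨_, h⟩ = a • G D hLT hQ r m := by
  set π := (exists_split D r).choose_spec.choose with hπ
  set s := (exists_split D r).choose_spec.choose_spec.choose with hs
  have hid : π ∘ₗ s = LinearMap.id := (exists_split D r).choose_spec.choose_spec.choose_spec
  show ∑ i, Vd ⟨s (WittVector.verschiebung a • m) i, _⟩ • G D hLT hQ r (π (Pi.single i 1)) = _
  have hm : ∑ i, s m i • π (Pi.single i 1) = m := by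
    conv_rhs => rw [show m = π (s m) from (LinearMap.congr_fun hid m).symm]
    conv_rhs => rw [pi_eq_sum_univ (s m), map_sum]
    refine Finset.sum_congr rfl fun i _ => ?_
    rw [map_smul]
    congr 2
    funext j
    simp [Pi.single_apply, eq_comm]
  conv_rhs => rw [← hm, map_sum, Finset.smul_sum]
  refine Finset.sum_congr rfl fun i _ => ?_
  rw [map_smulₛₗ (G D hLT hQ r), smul_smul]
  congr 1
  apply WittVector.verschiebung_injective
  rw [WittVector.verschiebung_mul_frobenius]
  exact ((mem_IV_iff.1 (Subtype.coe_prop _)).choose_spec).trans (by simp)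

noncomputable def F' : Λ →ₛₗ[σ] Λ where
  toFun z := (p : W) • G D hLT hQ r (π₀ hLT r z) + G D hLT hQ r (π₁ hLT r z)
  map_add' x y := by simp only [map_add, smul_add]; abel
  map_smul' c x := by simp only [map_smul, map_smulₛₗ, smul_add, smul_comm (p : W) (σ c)]

noncomputable def Vinv' : Q' D r →ₛₗ[σ] Λ where
  toFun z := G D hLT hQ r (π₀ hLT r z.1) + θ D hLT hQ r ⟨π₁ hLT r z.1, π₁_mem D hLT hQ r t ht z.2⟩
  map_add' x y := by
    rw [add_add_add_comm, ← map_add (θ D hLT hQ r), ← map_add (G D hLT hQ r), ← map_add (π₀ hLT r)]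
    congr 2
    exact Subtype.ext (map_add _ _ _)
  map_smul' c x := by
    rw [smul_add, ← map_smulₛₗ (θ D hLT hQ r), ← map_smulₛₗ (G D hLT hQ r), ← map_smul (π₀ hLT r)]
    congr 2
    exact Subtype.ext (map_smul _ _ _)

include ht in
theorem Vinv'_ιMulti (q : Fin r → D.Q) (hq : exteriorPower.ιMulti W r (fun i => (q i : P)) ∈ Q' D r) :
    Vinv' D hLT hQ r t ht ⟨_, hq⟩ = exteriorPower.ιMulti W r (fun i => D.Vinv (q i)) := by
  choose l b hl hx using fun i => exists_q D hQ t ht (q i)
  have htT : t ∈ T := t_mem t ht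
  have hw : exteriorPower.ιMulti W r (fun i => (q i : P)) = exteriorPower.ιMulti W r l +
      ∑ i, WittVector.verschiebung (b i) • exteriorPower.ιMulti W r (Function.update l i t) := by
    rw [show (fun i => (q i : P)) = fun i => l i + WittVector.verschiebung (b i) • t from funext hx,
      map_add_smul_const]
  have h0 : π₀ hLT r (exteriorPower.ιMulti W r (fun i => (q i : P))) = exteriorPower.ιMulti W r l := by
    rw [hw, map_add, π₀_of_L hLT r hl, map_sum]
    simp [π₀_update hLT r t ht hl]
  have hv : ∀ i, WittVector.verschiebung (b i) • exteriorPower.ιMulti W r (Function.update l i t) ∈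
      IV p R • (⊤ : Submodule W Λ) := fun i =>
    Submodule.smul_mem_smul (verschiebung_mem_IV p R _) Submodule.mem_top
  have h1 : (⟨π₁ hLT r (exteriorPower.ιMulti W r (fun i => (q i : P))),
      π₁_mem D hLT hQ r t ht hq⟩ : ↥(IV p R • (⊤ : Submodule W Λ))) = ∑ i, ⟨_, hv i⟩ := by
    apply Subtype.ext
    rw [Submodule.coe_sum]
    show π₁ hLT r _ = _
    rw [π₁, LinearMap.sub_apply, LinearMap.id_apply, h0, hw, add_sub_cancel_left]
  show G D hLT hQ r (π₀ hLT r (exteriorPower.ιMulti W r (fun i => (q i : P)))) + θ D hLT hQ r ⟨_, _⟩ = _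
  rw [h0, h1, map_sum, G_ιMulti]
  simp only [θ_smul, G_ιMulti]
  have hV : ∀ i, D.Vinv (q i) = g D hLT hQ (l i) + b i • D.F t := fun i => by
    rw [g_of_mem D hLT hQ (hl i), ← D.Vinv_verschiebung_smul, ← map_add]
    exact congrArg _ (Subtype.ext (hx i))
  rw [show (fun i => D.Vinv (q i)) = fun i => g D hLT hQ (l i) + b i • D.F t from funext hV, map_add_smul_const]
  congr 1
  refine Finset.sum_congr rfl fun i _ => ?_
  congr 2
  funext j
  rw [Function.apply_update (fun _ => g D hLT hQ), g_of_mem_T D hLT hQ htT]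

include hQ ht in
theorem Q'_eq : Q' D r = LinearMap.range (π₀ hLT r) ⊔ IV p R • LinearMap.range (π₁ hLT r) := by
  apply le_antisymm
  · intro z hz
    refine Submodule.mem_sup.2 ⟨_, ⟨z, rfl⟩, π₁ hLT r z, ?_, π₀_add_π₁ hLT r z⟩
    rw [← π₁_π₁, ← Submodule.map_top, ← Submodule.map_smul'']
    exact ⟨_, π₁_mem D hLT hQ r t ht hz, rfl⟩
  · refine sup_le ?_ ((Submodule.smul_mono le_rfl le_top).trans (IV_smul_le_Q' D hLT hQ r t ht))
    rw [← Submodule.map_top, ← exteriorPower.ιMulti_span, Submodule.map_span, Submodule.span_le]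
    rintro - ⟨-, ⟨x, rfl⟩, rfl⟩
    rw [π₀_ιMulti]
    exact Submodule.subset_span ⟨fun i => ⟨_, L_le D hQ (projL_mem hLT (x i))⟩, rfl⟩

theorem isCompl_range : IsCompl (LinearMap.range (π₀ hLT r)) (LinearMap.range (π₁ hLT r)) := by
  constructor
  · rw [Submodule.disjoint_def]
    rintro x ⟨a, rfl⟩ ⟨b, hb⟩
    rw [← π₀_idem, ← hb, π₀_π₁]
  · rw [codisjoint_iff, Submodule.eq_top_iff']
    exact fun x => Submodule.mem_sup.2 ⟨_, ⟨x, rfl⟩, _, ⟨x, rfl⟩, π₀_add_π₁ hLT r x⟩

noncomputable def extDisplay : Display3n p R Λ where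
  Q := Q' D r
  F := F' D hLT hQ r
  Vinv := Vinv' D hLT hQ r t ht
  finite := by haveI := D.finite; infer_instance
  projective := by
    obtain ⟨n, π, s, h⟩ := exists_split D r
    exact Module.Projective.of_split s π h
  IV_smul_le := IV_smul_le_Q' D hLT hQ r t ht
  exists_normal := ⟨_, _, isCompl_range hLT r, Q'_eq D hLT hQ r t ht⟩
  span_range_Vinv := by
    rw [eq_top_iff, ← exteriorPower.ιMulti_span_of_span W r P D.span_range_Vinv, Submodule.span_le]
    rintro - ⟨x, hx, rfl⟩
    choose q hq using fun i => hx ⟨i, rfl⟩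
    refine Submodule.subset_span ⟨⟨_, Submodule.subset_span ⟨q, rfl⟩⟩, ?_⟩
    rw [Vinv'_ιMulti]
    exact congrArg _ (funext hq)
  Vinv_verschiebung_smul w x := by
    have hv : WittVector.verschiebung w • π₁ hLT r x ∈ IV p R • (⊤ : Submodule W Λ) :=
      Submodule.smul_mem_smul (verschiebung_mem_IV p R _) Submodule.mem_top
    show G D hLT hQ r (π₀ hLT r (WittVector.verschiebung w • x)) + θ D hLT hQ r ⟨_, _⟩ =
      w • ((p : W) • G D hLT hQ r (π₀ hLT r x) + G D hLT hQ r (π₁ hLT r x))
    rw [map_smul, map_smulₛₗ, σ_verschiebung, smul_add, smul_smul, ← θ_smul D hLT hQ r w _ hv]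
    congr 2
    exact Subtype.ext (map_smul _ _ _)

theorem unique (E E' : Display3n p R Λ) (h : IsExtPow D r E) (h' : IsExtPow D r E') : E' = E := by
  obtain ⟨hQ1, hV1⟩ := h
  obtain ⟨hQ2, hV2⟩ := h'
  obtain ⟨Q1, F1, V1, f1, p1, i1, n1, s1, e1⟩ := E
  obtain ⟨Q2, F2, V2, f2, p2, i2, n2, s2, e2⟩ := E'
  dsimp only at hQ1 hQ2 hV1 hV2 e1 e2
  subst hQ1 hQ2
  have hV : V2 = V1 := by
    refine LinearMap.ext fun z => ?_
    obtain ⟨z, hz⟩ := z
    induction hz using Submodule.span_induction with
    | zero => exact (map_zero V2).trans (map_zero V1).symm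
    | add a b ha hb ea eb =>
      exact ((map_add V2 ⟨a, ha⟩ ⟨b, hb⟩).trans (congrArg₂ (· + ·) ea eb)).trans (map_add V1 ⟨a, ha⟩ ⟨b, hb⟩).symm
    | smul c a ha ea =>
      exact ((map_smulₛₗ V2 c ⟨a, ha⟩).trans (congrArg (σ c • ·) ea)).trans (map_smulₛₗ V1 c ⟨a, ha⟩).symm
    | mem z hz =>
      obtain ⟨q, rfl⟩ := hz
      exact (hV2 q _).trans (hV1 q _).symm
  subst hV
  have hF : F2 = F1 := LinearMap.ext fun x => by
    have a1 := e1 1 x
    have a2 := e2 1 x
    rw [one_smul] at a1 a2
    exact a2.symm.trans a1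
  subst hF
  rfl

theorem exists_generator {T : Submodule (WittVector p R) P} (e : T ≃ₗ[WittVector p R] WittVector p R) :
    T = Submodule.span (WittVector p R) {((e.symm 1 : T) : P)} := by
  apply le_antisymm
  · intro x hx
    refine Submodule.mem_span_singleton.2 ⟨e ⟨x, hx⟩, ?_⟩
    rw [← Submodule.coe_smul, ← map_smul, smul_eq_mul, mul_one, e.symm_apply_apply]
  · exact (Submodule.span_singleton_le_iff_mem _ _).2 (Subtype.coe_prop _)

end Groth.Agent.DispExt
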