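import Groth.Agent.DispExt.Core

/-!
The rank of the tangent part of an exterior power of a 3n-display.
-/

set_option autoImplicit false

universe u v

namespace Groth.Agent.DispExt

variable {p : ℕ} [Fact p.Prime] {R : Type u} [CommRing R] {P : Type v} [AddCommGroup P]
  [Module (WittVector p R) P]

theorem free_range_π₁ [Nontrivial R] {L T : Submodule (WittVector p R) P} (hLT : IsCompl L T)
    (e : T ≃ₗ[WittVector p R] WittVector p R) {m : ℕ} (b : Module.Basis (Fin m) (WittVector p R) L)
    (r : ℕ) (hr : 1 ≤ r) :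
    Module.Free (WittVector p R) (LinearMap.range (π₁ hLT r)) ∧
      Module.finrank (WittVector p R) (LinearMap.range (π₁ hLT r)) = m.choose (r - 1) := by
  classical
  let B : Module.Basis (Fin (m + 1)) (WittVector p R) P :=
    ((b.prod ((Module.Basis.singleton (Fin 1) (WittVector p R)).map e.symm)).map
      (Submodule.prodEquivOfIsCompl L T hLT)).reindex finSumFinEquiv
  have hBL : ∀ i : Fin m, B (Fin.castSucc i) = (b i : P) := fun i => by
    have : finSumFinEquiv.symm (Fin.castSucc i) = (Sum.inl i : Fin m ⊕ Fin 1) :=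
      finSumFinEquiv.symm_apply_eq.2 rfl
    simp [B, this]
  have hBT : B (Fin.last m) ∈ T := by
    have : finSumFinEquiv.symm (Fin.last m) = (Sum.inr 0 : Fin m ⊕ Fin 1) :=
      finSumFinEquiv.symm_apply_eq.2 rfl
    simp [B, this]
  let BE := B.exteriorPower r
  have hπ : ∀ s : Set.powersetCard (Fin (m + 1)) r,
      π₁ hLT r (BE s) = if Fin.last m ∈ (s : Finset (Fin (m + 1))) then BE s else 0 := by
    intro s
    have hBE : BE s = exteriorPower.ιMulti_family (WittVector p R) r B s := exteriorPower.basis_apply _ _ _ _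
    show BE s - π₀ hLT r (BE s) = _
    rw [hBE, π₀, exteriorPower.map_apply_ιMulti_family]
    split_ifs with hs
    · rw [sub_eq_self]
      unfold exteriorPower.ιMulti_family
      obtain ⟨k, hk⟩ := (Set.powersetCard.mem_range_ofFinEmbEquiv_symm_iff_mem s (Fin.last m)).2 hs
      refine AlternatingMap.map_coord_zero _ k ?_
      simp [hk, projL_of_mem_T hLT hBT]
    · rw [sub_eq_zero]
      unfold exteriorPower.ιMulti_family
      refine congrArg _ (funext fun k => ?_)
      obtain ⟨i, hi⟩ := Fin.exists_castSucc_eq.2 (fun h => hs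
        (h ▸ (Set.powersetCard.mem_range_ofFinEmbEquiv_symm_iff_mem s _).1 ⟨k, rfl⟩))
      simp [← hi, hBL, projL_of_mem hLT (b i).2]
  let ι' := {s : Set.powersetCard (Fin (m + 1)) r // Fin.last m ∈ (s : Finset (Fin (m + 1)))}
  let v : ι' → ⋀[WittVector p R]^r P := fun s => BE s.1
  have hrange : LinearMap.range (π₁ hLT r) = Submodule.span (WittVector p R) (Set.range v) := by
    apply le_antisymm
    · rw [← Submodule.map_top, ← BE.span_eq, Submodule.map_span, Submodule.span_le]
      rintro - ⟨-, ⟨s, rfl⟩, rfl⟩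
      rw [hπ]
      split_ifs with hs
      · exact Submodule.subset_span ⟨⟨s, hs⟩, rfl⟩
      · exact zero_mem _
    · rw [Submodule.span_le]
      rintro - ⟨s, rfl⟩
      exact ⟨BE s.1, by rw [hπ, if_pos s.2]⟩
  have hli : LinearIndependent (WittVector p R) v := BE.linearIndependent.comp _ Subtype.val_injective
  let bb : Module.Basis ι' (WittVector p R) (LinearMap.range (π₁ hLT r)) :=
    (Module.Basis.span hli).map (LinearEquiv.ofEq _ _ hrange.symm)
  refine ⟨Module.Free.of_basis bb, ?_⟩
  rw [Module.finrank_eq_card_basis bb]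
  have h1 : Fintype.card ι' = ((Finset.univ.powersetCard r).filter fun t : Finset (Fin (m + 1)) => Fin.last m ∈ t).card := by
    rw [← Fintype.card_coe]
    exact Fintype.card_congr
      { toFun := fun s => ⟨(s.1 : Finset (Fin (m + 1))), Finset.mem_filter.2 ⟨Finset.mem_powersetCard_univ.2 s.1.2, s.2⟩⟩
        invFun := fun t => ⟨⟨t.1, Finset.mem_powersetCard_univ.1 (Finset.mem_filter.1 t.2).1⟩, (Finset.mem_filter.1 t.2).2⟩
        left_inv := fun s => rfl
        right_inv := fun t => rfl }
  have h2 : ((Finset.univ.powersetCard r).filter fun t : Finset (Fin (m + 1)) => Fin.last m ∉ t) =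
      (Finset.univ.erase (Fin.last m)).powersetCard r := by
    ext t
    simp [Finset.mem_powersetCard, Finset.subset_erase, and_comm]
  have h3 := Finset.card_filter_add_card_filter_not (s := Finset.univ.powersetCard r)
    (fun t : Finset (Fin (m + 1)) => Fin.last m ∈ t)
  rw [h2, Finset.card_powersetCard, Finset.card_powersetCard, Finset.card_erase_of_mem (Finset.mem_univ _),
    Finset.card_univ, Fintype.card_fin, add_tsub_cancel_right] at h3
  obtain ⟨r', rfl⟩ : ∃ r', r = r' + 1 := ⟨r - 1, by omega⟩
  rw [Nat.choose_succ_succ] at h3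
  rw [h1, Nat.add_sub_cancel]
  simp only [Nat.succ_eq_add_one] at h3
  omega

end Groth.Agent.DispExt
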